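import Groth.Agent.Gaga.H980.TraceAR
import Mathlib.RingTheory.Ideal.MinimalPrime.Noetherian
import Mathlib.RingTheory.Nilpotent.Lemmas

/-!
# Powers of an ideal in a reduced ring and in its components

If `A` is a reduced Noetherian ring and `m` an ideal then, for every `n`, an element which is in
`m^N + p` for every minimal prime `p` lies in `m^n`, as soon as `N ≥ n + c`.
-/

set_option autoImplicit false

namespace Groth.Agent.Gaga.H980.MinPrimes

open Groth.Agent.Gaga.H980.TraceAR

theorem exists_shift {A : Type*} [CommRing A] [IsNoetherianRing A] [IsReduced A] (m : Ideal A) :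
    ∃ c : ℕ, ∀ (n : ℕ) (a : A), (∀ p ∈ minimalPrimes A, a ∈ m ^ (n + c) ⊔ p) → a ∈ m ^ n := by
  classical
  have hfin : (minimalPrimes A).Finite := minimalPrimes.finite_of_isNoetherianRing A
  have : Fintype (minimalPrimes A) := hfin.fintype
  let τ : A →ₗ[A] (∀ p : minimalPrimes A, A ⧸ p.1) :=
    LinearMap.pi fun p => (Ideal.Quotient.mkₐ A p.1).toLinearMap
  have hτ : ∀ a p, τ a p = Ideal.Quotient.mk p.1 a := fun a p => rfl
  have inj : Function.Injective τ := by
    rw [injective_iff_map_eq_zero]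
    intro a ha
    have h1 : a ∈ sInf (minimalPrimes A) := by
      rw [Ideal.mem_sInf]
      intro p hp
      have := congrFun ha ⟨p, hp⟩
      rw [hτ] at this
      exact Ideal.Quotient.eq_zero_iff_mem.1 this
    have h2 : sInf (minimalPrimes A) = ⊥ := by
      have := Ideal.sInf_minimalPrimes (I := (⊥ : Ideal A))
      rw [show (⊥ : Ideal A).minimalPrimes = minimalPrimes A from rfl] at this
      rw [this]
      exact nilradical_eq_zero A
    rw [h2] at h1
    exact h1
  obtain ⟨c, hc⟩ := exists_mem_pow_of_map_mem τ inj m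
  refine ⟨c, fun n a ha => ?_⟩
  have h1 : τ a ∈ (m ^ (n + c) • ⊤ : Submodule A (∀ p : minimalPrimes A, A ⧸ p.1)) := by
    have h2 : τ a = ∑ p : minimalPrimes A, Pi.single p (τ a p) :=
      (Finset.univ_sum_single (τ a)).symm
    rw [h2]
    refine Submodule.sum_mem _ fun p _ => ?_
    obtain ⟨x, hx, y, hy, hxy⟩ := Submodule.mem_sup.1 (ha p.1 p.2)
    have h3 : (Pi.single p (τ a p) : ∀ p : minimalPrimes A, A ⧸ p.1) = x • Pi.single p 1 := by
      rw [← Pi.single_smul, hτ, ← hxy, map_add, Ideal.Quotient.eq_zero_iff_mem.2 hy, add_zero,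
        Algebra.smul_def, mul_one]
      rfl
    rw [h3]
    exact Submodule.smul_mem_smul hx trivial
  have h4 := hc n a h1
  simpa using h4

/-- The form with a quantifier `∀ n, ∃ N`. -/
theorem exists_bound {A : Type*} [CommRing A] [IsNoetherianRing A] [IsReduced A] (m : Ideal A)
    (n : ℕ) : ∃ N : ℕ, ∀ a : A, (∀ p ∈ minimalPrimes A, a ∈ m ^ N ⊔ p) → a ∈ m ^ n := by
  obtain ⟨c, hc⟩ := exists_shift m
  exact ⟨n + c, fun a ha => hc n a ha⟩

end Groth.Agent.Gaga.H980.MinPrimes
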