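import Mathlib.RingTheory.Trace.Basic
import Mathlib.RingTheory.Filtration
import Mathlib.RingTheory.Localization.FractionRing
import Mathlib.RingTheory.Localization.Integral
import Mathlib.RingTheory.Localization.Finiteness
import Mathlib.RingTheory.Algebraic.Integral
import Mathlib.RingTheory.IntegralClosure.IntegrallyClosed
import Mathlib.FieldTheory.Separable
import Mathlib.LinearAlgebra.Pi

/-!
# Trace form and Artin-Rees

`R → S` a finite injective map of domains with separable extension of fraction fields `K → L`,
`R` integrally closed and Noetherian.  If all the traces `Tr(g s)`, `s ∈ S`, lie in a high power of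
an ideal `I` of `R`, then `g` lies in a high power of `I S` (with a linear bound).
-/

set_option autoImplicit false

open Module

namespace Groth.Agent.Gaga.H980.TraceAR

section artinRees

/-- Artin-Rees for an injective linear map of finite modules: if `τ g ∈ I^(n+c) M` then
`g ∈ I^n S`. -/
theorem exists_mem_pow_of_map_mem {R S M : Type*} [CommRing R] [IsNoetherianRing R]
    [AddCommGroup S] [Module R S] [AddCommGroup M] [Module R M] [Module.Finite R M]
    (τ : S →ₗ[R] M) (hτ : Function.Injective τ) (I : Ideal R) :
    ∃ c : ℕ, ∀ (n : ℕ) (g : S), τ g ∈ (I ^ (n + c) • ⊤ : Submodule R M) →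
      g ∈ (I ^ n • ⊤ : Submodule R S) := by
  obtain ⟨k, hk⟩ := Ideal.exists_pow_inf_eq_pow_smul I (LinearMap.range τ)
  refine ⟨k, fun n g hg => ?_⟩
  have h1 := hk (n + k) (Nat.le_add_left k n)
  have h2 : τ g ∈ (I ^ (n + k) • ⊤ ⊓ LinearMap.range τ : Submodule R M) := ⟨hg, g, rfl⟩
  rw [h1, Nat.add_sub_cancel] at h2
  have h3 : τ g ∈ I ^ n • LinearMap.range τ := Submodule.smul_mono le_rfl inf_le_right h2
  rw [LinearMap.range_eq_map, ← Submodule.map_smul''] at h3
  obtain ⟨g', hg', hgg⟩ := h3
  rwa [← hτ hgg]

end artinRees

section trace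

variable (R S K L : Type*) [CommRing R] [IsDomain R] [IsIntegrallyClosed R]
  [CommRing S] [IsDomain S] [Field K] [Field L]
  [Algebra R S] [Algebra R K] [Algebra S L] [Algebra K L] [Algebra R L]
  [IsScalarTower R K L] [IsScalarTower R S L] [IsFractionRing R K] [IsFractionRing S L]
  [Module.Finite R S] [FaithfulSMul R S]

omit [IsIntegrallyClosed R] in
include R S in
lemma finite_frac : Module.Finite K L :=
  Module.Finite.of_isLocalization R S (nonZeroDivisors R)

include S in
/-- The trace of an element of `S` lies in `R`. -/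
lemma exists_trace_eq (s : S) : ∃ r : R, algebraMap R K r =
    Algebra.trace K L (algebraMap S L s) := by
  have := finite_frac R S K L
  have h1 : IsIntegral R (algebraMap S L s) :=
    (Algebra.IsIntegral.isIntegral (R := R) s).map (IsScalarTower.toAlgHom R S L)
  exact IsIntegrallyClosed.isIntegral_iff.1 (Algebra.isIntegral_trace (L := K) (F := L) h1)

/-- The trace `S → R`, as a function. -/
noncomputable def trFun (s : S) : R := Classical.choose (exists_trace_eq R S K L s)

lemma algebraMap_trFun (s : S) : algebraMap R K (trFun R S K L s) =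
    Algebra.trace K L (algebraMap S L s) :=
  Classical.choose_spec (exists_trace_eq R S K L s)

/-- The trace `S → R`. -/
noncomputable def tr : S →ₗ[R] R where
  toFun := trFun R S K L
  map_add' s t := by
    apply IsFractionRing.injective R K
    rw [map_add, algebraMap_trFun, algebraMap_trFun, algebraMap_trFun, map_add, map_add]
  map_smul' r s := by
    apply IsFractionRing.injective R K
    rw [RingHom.id_apply, smul_eq_mul, map_mul, algebraMap_trFun, algebraMap_trFun,
      Algebra.smul_def, map_mul, ← IsScalarTower.algebraMap_apply R S L,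
      IsScalarTower.algebraMap_apply R K L, ← Algebra.smul_def, map_smul, smul_eq_mul]

lemma algebraMap_tr (s : S) : algebraMap R K (tr R S K L s) =
    Algebra.trace K L (algebraMap S L s) :=
  algebraMap_trFun R S K L s

/-- The trace form is nondegenerate on `S`. -/
lemma eq_zero_of_tr_mul [Algebra.IsSeparable K L] (g : S)
    (h : ∀ s : S, tr R S K L (g * s) = 0) : g = 0 := by
  have := finite_frac R S K L
  apply IsFractionRing.injective S L
  rw [map_zero]
  refine (traceForm_nondegenerate K L).1 _ fun z => ?_
  obtain ⟨s, ⟨_, r, hr, rfl⟩, rfl⟩ :=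
    IsLocalization.exists_mk'_eq (Algebra.algebraMapSubmonoid S (nonZeroDivisors R)) z
  change Algebra.traceForm K L (algebraMap S L g) (IsLocalization.mk' L s
    (⟨algebraMap R S r, ⟨r, hr, rfl⟩⟩ :
      Algebra.algebraMapSubmonoid S (nonZeroDivisors R))) = 0
  have hr0 : algebraMap R K r ≠ 0 := by
    simpa using (IsFractionRing.injective R K).ne (nonZeroDivisors.ne_zero hr)
  have h1 : algebraMap R K r • IsLocalization.mk' L s
      (⟨algebraMap R S r, ⟨r, hr, rfl⟩⟩ :
        Algebra.algebraMapSubmonoid S (nonZeroDivisors R)) = algebraMap S L s := by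
    rw [Algebra.smul_def, ← IsScalarTower.algebraMap_apply R K L,
      IsScalarTower.algebraMap_apply R S L, mul_comm]
    exact IsLocalization.mk'_spec L s _
  have h2 : algebraMap R K r • Algebra.traceForm K L (algebraMap S L g)
      (IsLocalization.mk' L s (⟨algebraMap R S r, ⟨r, hr, rfl⟩⟩ :
        Algebra.algebraMapSubmonoid S (nonZeroDivisors R))) = 0 := by
    rw [← map_smul, h1, Algebra.traceForm_apply, ← map_mul, ← algebraMap_tr R S K L, h s, map_zero]
  exact (smul_eq_zero.1 h2).resolve_left hr0

/-- **Trace form and Artin-Rees.** There is `c` such that for every `g : S` all of whose traces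
`Tr(g s)` lie in `I^(n+c)`, one has `g ∈ I^n S`. -/
theorem exists_shift [IsNoetherianRing R] [Algebra.IsSeparable K L]
    (I : Ideal R) :
    ∃ c : ℕ, ∀ (n : ℕ) (g : S),
      (∀ s : S, ∃ r ∈ I ^ (n + c), algebraMap R K r =
        Algebra.trace K L (algebraMap S L (g * s))) →
      g ∈ (I ^ n).map (algebraMap R S) := by
  classical
  obtain ⟨t, ht⟩ := (Module.Finite.fg_top : (⊤ : Submodule R S).FG)
  let τ : S →ₗ[R] (t → R) := LinearMap.pi fun j =>
    (tr R S K L).comp ((LinearMap.mul R S).flip (j : S))
  have hτ : ∀ g j, τ g j = tr R S K L (g * j) := fun g j => rfl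
  have inj : Function.Injective τ := by
    rw [injective_iff_map_eq_zero]
    intro g hg
    refine eq_zero_of_tr_mul R S K L g fun s => ?_
    have hs : s ∈ Submodule.span R (t : Set S) := by rw [ht]; trivial
    induction hs using Submodule.span_induction with
    | mem x hx =>
      have := congrFun hg ⟨x, hx⟩
      rwa [hτ] at this
    | zero => rw [mul_zero, map_zero]
    | add x y _ _ hx hy => rw [mul_add, map_add, hx, hy, add_zero]
    | smul a x _ hx => rw [mul_smul_comm, map_smul, hx, smul_zero]
  obtain ⟨c, hc⟩ := exists_mem_pow_of_map_mem τ inj I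
  refine ⟨c, fun n g hg => ?_⟩
  have h1 : τ g ∈ (I ^ (n + c) • ⊤ : Submodule R (t → R)) := by
    have h2 : ∀ j, τ g j ∈ I ^ (n + c) := fun j => by
      obtain ⟨r, hr, hrr⟩ := hg (j : S)
      rw [hτ, show tr R S K L (g * j) = r from IsFractionRing.injective R K
        ((algebraMap_tr R S K L _).trans hrr.symm)]
      exact hr
    rw [pi_eq_sum_univ' (τ g)]
    exact Submodule.sum_mem _ fun j _ => Submodule.smul_mem_smul (h2 j) trivial
  have h3 := hc n g h1
  have h4 := Ideal.smul_top_eq_map (S := S) (I ^ n)
  rw [h4] at h3
  exact h3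

end trace

end Groth.Agent.Gaga.H980.TraceAR
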